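import Groth.Agent.Fano.K714.TwDef
import Groth.Agent.Fano.K713.Binary
import Mathlib.Algebra.MvPolynomial.Funext

/-!
# The parametrisation of a rational cubic attached to two lines: the algebraic core

Binary forms `g` (degree 2), `y₀, y₁` (degree 3, without common zeros) such that the cubic vanishes on
`g (s a + t b) - y₀ p - y₁ q`, where `⟨a, b⟩` and `⟨p, q⟩` are two lines on the cubic: then this curve is a
multiple of `K714.Tw.phipt` for a linear form `l`.
-/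

set_option autoImplicit false

universe u v

namespace K118.TwCore

open K656.Trilin Module K714.Surf K714.Tw MvPolynomial

variable {k : Type u} [Field k]

/-- the linear form `α s + β t` -/
noncomputable def lf (α β : k) : MvPolynomial (Fin 2) k := C α * X 0 + C β * X 1

@[simp] theorem eval_lf (α β : k) (x : Fin 2 → k) : eval x (lf α β) = α * x 0 + β * x 1 := by
  simp [lf]

theorem isHomogeneous_lf (α β : k) : (lf α β).IsHomogeneous 1 :=
  ((isHomogeneous_C_mul_X α 0).add (isHomogeneous_C_mul_X β 1))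

/-- a homogeneous form of degree `1` is `lf` -/
theorem exists_lf {l : MvPolynomial (Fin 2) k} (h : l.IsHomogeneous 1) : ∃ α β : k, l = lf α β := by
  refine ⟨coeff (Finsupp.single 0 1) l, coeff (Finsupp.single 1 1) l, ?_⟩
  ext d
  by_cases hd : d.degree = 1
  · obtain ⟨i, rfl⟩ : ∃ i, d = Finsupp.single i 1 := by
      have : ∑ i, d i = 1 := by rw [← hd, Finsupp.degree_eq_sum]
      rw [Fin.sum_univ_two] at this
      rcases Nat.add_eq_one_iff.1 this with ⟨h0, h1⟩ | ⟨h0, h1⟩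
      · exact ⟨1, by ext i; fin_cases i <;> simp [h0, h1]⟩
      · exact ⟨0, by ext i; fin_cases i <;> simp [h0, h1]⟩
    fin_cases i <;> simp [lf, coeff_C_mul, coeff_X, Finsupp.single_left_inj]
  · have h1 : coeff d l = 0 := h.coeff_eq_zero hd
    have h2 : coeff d (lf (coeff (Finsupp.single 0 1) l) (coeff (Finsupp.single 1 1) l)) = 0 :=
      (isHomogeneous_lf _ _).coeff_eq_zero hd
    rw [h1, h2]

theorem isHomogeneous_zero_eq_C {l : MvPolynomial (Fin 2) k} (h : l.IsHomogeneous 0) : ∃ α : k, l = C α := by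
  by_cases h0 : l = 0
  · exact ⟨0, by rw [h0, map_zero]⟩
  · exact ⟨_, totalDegree_eq_zero_iff_eq_C.1 (h.totalDegree h0)⟩

/-- quotient of homogeneous forms -/
theorem isHomogeneous_of_mul {P Q R : MvPolynomial (Fin 2) k} {m n : ℕ} (hP : P.IsHomogeneous m)
    (hR : R.IsHomogeneous (m + n)) (hP0 : P ≠ 0) (h : R = P * Q) : Q.IsHomogeneous n := by
  by_cases hQ : Q = 0
  · rw [hQ]; exact isHomogeneous_zero _ _ _
  · rw [h] at hR
    obtain ⟨a, b, hab, ha, hb⟩ := K713.HomFactor.exists_isHomogeneous hR (mul_ne_zero hP0 hQ)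
    have : a = m := ha.inj_right hP hP0
    have hbn : b = n := by omega
    rw [← hbn]; exact hb

/-- kernel vector of a degenerate binary quadratic form -/
theorem exists_ker {c11 c12 c22 : k} (hC : c11 * c22 - c12 ^ 2 = 0) (h0 : ¬ (c11 = 0 ∧ c12 = 0 ∧ c22 = 0)) :
    ∃ m n : k, (m ≠ 0 ∨ n ≠ 0) ∧ ∀ d11 d12 d22 : k, c11 * d22 + c22 * d11 - 2 * c12 * d12 = 0 →
      d11 * m ^ 2 + 2 * d12 * m * n + d22 * n ^ 2 = 0 := by
  by_cases h1 : c11 = 0
  · have h12 : c12 = 0 := by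
      rw [h1] at hC
      have : c12 ^ 2 = 0 := by linear_combination -hC
      exact pow_eq_zero_iff (two_ne_zero) |>.1 this
    have h22 : c22 ≠ 0 := fun h => h0 ⟨h1, h12, h⟩
    refine ⟨c22, -c12, Or.inl h22, fun d11 d12 d22 hd => ?_⟩
    subst h1 h12
    have : d11 = 0 := by
      have : c22 * d11 = 0 := by linear_combination hd
      exact (mul_eq_zero.1 this).resolve_left h22
    rw [this]; ring
  · refine ⟨-c12, c11, Or.inr h1, fun d11 d12 d22 hd => ?_⟩
    linear_combination c11 * hd - d11 * hC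

theorem exists_common_zero [IsAlgClosed k] {A11 A12 A22 B11 B12 B22 l0 l1 : k} (h1 : A11 * A22 - A12 ^ 2 = - l0 ^ 2)
    (h2 : B11 * B22 - B12 ^ 2 = - l1 ^ 2) (h3 : A11 * B22 + A22 * B11 - 2 * A12 * B12 = - 2 * l0 * l1) :
    ∃ m n : k, (m ≠ 0 ∨ n ≠ 0) ∧ A11 * m ^ 2 + 2 * A12 * m * n + A22 * n ^ 2 = 0 ∧
      B11 * m ^ 2 + 2 * B12 * m * n + B22 * n ^ 2 = 0 := by
  by_cases hl : l0 = 0 ∧ l1 = 0
  · obtain ⟨rfl, rfl⟩ := hl
    by_cases hA : A11 = 0 ∧ A12 = 0 ∧ A22 = 0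
    · obtain ⟨rfl, rfl, rfl⟩ := hA
      obtain ⟨m, n, hmn, h⟩ := exists_quad_zero B11 (2 * B12) B22
      exact ⟨m, n, hmn, by ring, h⟩
    · obtain ⟨m, n, hmn, h⟩ := exists_ker (c11 := A11) (c12 := A12) (c22 := A22) (by rw [h1]; ring) hA
      refine ⟨m, n, hmn, h _ _ _ ?_, h _ _ _ ?_⟩
      · linear_combination 2 * h1
      · linear_combination h3
  · by_cases hC : l1 * A11 - l0 * B11 = 0 ∧ l1 * A12 - l0 * B12 = 0 ∧ l1 * A22 - l0 * B22 = 0
    · obtain ⟨e1, e2, e3⟩ := hC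
      by_cases hl0 : l0 = 0
      · have hl1 : l1 ≠ 0 := fun h => hl ⟨hl0, h⟩
        subst hl0
        obtain ⟨m, n, hmn, h⟩ := exists_quad_zero B11 (2 * B12) B22
        refine ⟨m, n, hmn, ?_, h⟩
        have : l1 * (A11 * m ^ 2 + 2 * A12 * m * n + A22 * n ^ 2) = 0 := by
          linear_combination m ^ 2 * e1 + 2 * m * n * e2 + n ^ 2 * e3
        exact (mul_eq_zero.1 this).resolve_left hl1
      · obtain ⟨m, n, hmn, h⟩ := exists_quad_zero A11 (2 * A12) A22
        refine ⟨m, n, hmn, h, ?_⟩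
        have : l0 * (B11 * m ^ 2 + 2 * B12 * m * n + B22 * n ^ 2) = 0 := by
          linear_combination l1 * h - m ^ 2 * e1 - 2 * m * n * e2 - n ^ 2 * e3
        exact (mul_eq_zero.1 this).resolve_left hl0
    · obtain ⟨m, n, hmn, h⟩ := exists_ker (c11 := l1 * A11 - l0 * B11) (c12 := l1 * A12 - l0 * B12)
        (c22 := l1 * A22 - l0 * B22) (by linear_combination l1 ^ 2 * h1 + l0 ^ 2 * h2 - l0 * l1 * h3) hC
      refine ⟨m, n, hmn, h _ _ _ ?_, h _ _ _ ?_⟩
      · linear_combination 2 * l1 * h1 - l0 * h3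
      · linear_combination l1 * h3 - 2 * l0 * h2

variable [IsAlgClosed k]

/-- **The algebraic core** (matrix form). `Aij`, `Bij` are the entries of two binary quadratic forms without common
zeros, `W = s A + t B`, and `y (W y - g u) = 0`. -/
theorem core {A11 A12 A22 B11 B12 B22 : k} (hAB : ∀ m n : k, A11 * m ^ 2 + 2 * A12 * m * n + A22 * n ^ 2 = 0 →
      B11 * m ^ 2 + 2 * B12 * m * n + B22 * n ^ 2 = 0 → m = 0 ∧ n = 0)
    {g y₀ y₁ u₀ u₁ : MvPolynomial (Fin 2) k} (hg : g.IsHomogeneous 2) (hg0 : g ≠ 0) (hy₀ : y₀.IsHomogeneous 3)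
    (hy₁ : y₁.IsHomogeneous 3) (hu₀ : u₀.IsHomogeneous 2) (hu₁ : u₁.IsHomogeneous 2)
    (hy : ∀ x : Fin 2 → k, x ≠ 0 → eval x y₀ = 0 → eval x y₁ = 0 → False)
    (h : y₀ * (lf A11 B11 * y₀ + lf A12 B12 * y₁ - g * u₀) + y₁ * (lf A12 B12 * y₀ + lf A22 B22 * y₁ - g * u₁) = 0) :
    ∃ l₀ l₁ r : k, r ≠ 0 ∧
      lf A11 B11 * lf A22 B22 - lf A12 B12 ^ 2 + lf l₀ l₁ ^ 2 = C r * g ∧
      lf A22 B22 * u₀ - lf A12 B12 * u₁ - lf l₀ l₁ * u₁ = C r * y₀ ∧
      lf A11 B11 * u₁ - lf A12 B12 * u₀ + lf l₀ l₁ * u₀ = C r * y₁ := by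
  have hrel := K713.Binary.isRelPrime_of_no_common_zero hy₀ hy₁ hy
  have hne0 : y₀ ≠ 0 := by
    rintro rfl
    obtain ⟨x, hx, hx0⟩ := K713.Binary.exists_zero hy₁ (by omega)
    exact hy x hx (map_zero _) hx0
  have hne1 : y₁ ≠ 0 := by
    rintro rfl
    obtain ⟨x, hx, hx0⟩ := K713.Binary.exists_zero hy₀ (by omega)
    exact hy x hx hx0 (map_zero _)
  have hd : y₁ ∣ (lf A11 B11 * y₀ + lf A12 B12 * y₁ - g * u₀) := by
    refine hrel.symm.dvd_of_dvd_mul_left (y := y₀) ?_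
    exact ⟨-(lf A12 B12 * y₀ + lf A22 B22 * y₁ - g * u₁), by linear_combination h⟩
  obtain ⟨q, hq⟩ := hd
  have hhom : (lf A11 B11 * y₀ + lf A12 B12 * y₁ - g * u₀).IsHomogeneous (3 + 1) := by
    refine IsHomogeneous.sub (IsHomogeneous.add ?_ ?_) ?_
    · exact (isHomogeneous_lf _ _).mul hy₀
    · exact (isHomogeneous_lf _ _).mul hy₁
    · exact hg.mul hu₀
  have hqh : q.IsHomogeneous 1 := isHomogeneous_of_mul hy₁ hhom hne1 hq
  have hq1 : lf A12 B12 * y₀ + lf A22 B22 * y₁ - g * u₁ = - (y₀ * q) := by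
    apply mul_left_cancel₀ hne1
    linear_combination h - y₀ * hq
  obtain ⟨l₀, l₁, hl⟩ := exists_lf hqh.neg
  have hq' : q = - lf l₀ l₁ := by rw [← hl, neg_neg]
  rw [hq'] at hq hq1
  clear hl hqh hq' hhom
  set W11 := lf A11 B11
  set W12 := lf A12 B12
  set W22 := lf A22 B22
  set l := lf l₀ l₁
  have e0 : (W11 * W22 - W12 ^ 2 + l ^ 2) * y₀ = g * (W22 * u₀ - W12 * u₁ - l * u₁) := by
    linear_combination W22 * hq - (W12 + l) * hq1
  have e1 : (W11 * W22 - W12 ^ 2 + l ^ 2) * y₁ = g * (W11 * u₁ - W12 * u₀ + l * u₀) := by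
    linear_combination W11 * hq1 - (W12 - l) * hq
  have hE : W11 * W22 - W12 ^ 2 + l ^ 2 ≠ 0 := by
    intro hE
    have hev : ∀ s t : k, (A11 * s + B11 * t) * (A22 * s + B22 * t) - (A12 * s + B12 * t) ^ 2 +
        (l₀ * s + l₁ * t) ^ 2 = 0 := fun s t => by
      have := congrArg (eval ![s, t]) hE
      simpa [W11, W12, W22, l] using this
    have h10 := hev 1 0
    have h01 := hev 0 1
    have h11 := hev 1 1
    obtain ⟨m, n, hmn, hA, hB⟩ := exists_common_zero (A11 := A11) (A12 := A12) (A22 := A22) (B11 := B11)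
      (B12 := B12) (B22 := B22) (l0 := l₀) (l1 := l₁) (by linear_combination h10) (by linear_combination h01)
      (by linear_combination h11 - h10 - h01)
    obtain ⟨hm, hn⟩ := hAB m n hA hB
    exact hmn.elim (fun h => h hm) (fun h => h hn)
  set E := W11 * W22 - W12 ^ 2 + l ^ 2
  set h0 := W22 * u₀ - W12 * u₁ - l * u₁
  set h1 := W11 * u₁ - W12 * u₀ + l * u₀
  have e2 : y₀ * h1 = y₁ * h0 := by
    apply mul_left_cancel₀ hE
    linear_combination h1 * e0 - h0 * e1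
  obtain ⟨c, hc⟩ : y₀ ∣ h0 := hrel.dvd_of_dvd_mul_left (y := y₁) ⟨h1, e2.symm⟩
  have hEg : E = g * c := by
    apply mul_right_cancel₀ hne0
    rw [e0, hc]; ring
  have hEh : E.IsHomogeneous (2 + 0) := by
    refine IsHomogeneous.add (IsHomogeneous.sub ?_ ?_) ?_
    · exact (isHomogeneous_lf _ _).mul (isHomogeneous_lf _ _)
    · exact (isHomogeneous_lf _ _).pow 2
    · exact (isHomogeneous_lf _ _).pow 2
  obtain ⟨r, hr⟩ := isHomogeneous_zero_eq_C (isHomogeneous_of_mul hg hEh hg0 hEg)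
  refine ⟨l₀, l₁, r, ?_, ?_, ?_, ?_⟩
  · rintro rfl
    rw [hr, map_zero, mul_zero] at hEg
    exact hE hEg
  · rw [← hr]; exact hEg.trans (mul_comm _ _)
  · rw [← hr]; exact hc.trans (mul_comm _ _)
  · apply mul_left_cancel₀ hne0
    rw [← hr, e2, hc]; ring

end K118.TwCore
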