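import Groth.Agent.Fano.K118.TwCore

/-!
# Rational cubics from two lines

`exists_phipt`: if the cubic vanishes on the lines `⟨a, b⟩`, `⟨p, q⟩` and on the parametrised curve
`g (s a + t b) - y₀ p - y₁ q`, then this curve is a multiple of `phipt`.
-/

set_option autoImplicit false

universe u v

namespace K118.TwLines

open K656.Trilin Module K714.Surf K714.Tw MvPolynomial K118.TwCore

variable {k : Type u} [Field k]

/-- binary quadratic form -/
noncomputable def qf (α β γ : k) : MvPolynomial (Fin 2) k := C α * X 0 ^ 2 + C β * (X 0 * X 1) + C γ * X 1 ^ 2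

@[simp] theorem eval_qf (α β γ : k) (x : Fin 2 → k) :
    eval x (qf α β γ) = α * x 0 ^ 2 + β * (x 0 * x 1) + γ * x 1 ^ 2 := by
  simp [qf]

theorem isHomogeneous_qf (α β γ : k) : (qf α β γ).IsHomogeneous 2 := by
  refine IsHomogeneous.add (IsHomogeneous.add ?_ ?_) ?_
  · exact ((isHomogeneous_X k 0).pow 2).C_mul α
  · exact ((isHomogeneous_X k 0).mul (isHomogeneous_X k 1)).C_mul β
  · exact ((isHomogeneous_X k 1).pow 2).C_mul γ

variable {V : Type v} [AddCommGroup V] [Module k V] [IsAlgClosed k] [CharZero k]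

theorem exists_phipt {T : V →ₗ[k] V →ₗ[k] V →ₗ[k] k} (hT : IsSym3 T) {a b p q : V}
    (hab : ∀ s t : k, T (s • a + t • b) (s • a + t • b) (s • a + t • b) = 0)
    (hpq : ∀ s t : k, T (s • p + t • q) (s • p + t • q) (s • p + t • q) = 0)
    (hnd : ∀ m n : k, T a (m • p + n • q) (m • p + n • q) = 0 → T b (m • p + n • q) (m • p + n • q) = 0 →
      m = 0 ∧ n = 0)
    {g y₀ y₁ : MvPolynomial (Fin 2) k} (hg : g.IsHomogeneous 2) (hg0 : g ≠ 0) (hy₀ : y₀.IsHomogeneous 3)
    (hy₁ : y₁.IsHomogeneous 3)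
    (hy : ∀ x : Fin 2 → k, x ≠ 0 → eval x y₀ = 0 → eval x y₁ = 0 → False) {c : (Fin 2 → k) → V}
    (hc : ∀ x, c x = eval x g • (x 0 • a + x 1 • b) - (eval x y₀ • p + eval x y₁ • q))
    (hcc : ∀ x, T (c x) (c x) (c x) = 0) :
    ∃ l₀ l₁ r : k, r ≠ 0 ∧ ∀ x : Fin 2 → k, phipt T a b p q l₀ l₁ (x 0) (x 1) = r • c x := by
  have h3 : (3 : k) ≠ 0 := by norm_num
  -- entries
  set u₀ := qf (T a a p) (2 * T a b p) (T b b p) with hu₀
  set u₁ := qf (T a a q) (2 * T a b q) (T b b q) with hu₁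
  have hW : ∀ (x : Fin 2 → k) (v w : V), T (x 0 • a + x 1 • b) v w = T a v w * x 0 + T b v w * x 1 := by
    intro x v w
    simp only [map_add, map_smul, LinearMap.add_apply, LinearMap.smul_apply, smul_eq_mul]
    ring
  have hU : ∀ (x : Fin 2 → k) (w : V), T (x 0 • a + x 1 • b) (x 0 • a + x 1 • b) w =
      T a a w * x 0 ^ 2 + 2 * T a b w * (x 0 * x 1) + T b b w * x 1 ^ 2 := by
    intro x w
    rw [hT.sq_smul_add_smul]
    ring
  have hqp : ∀ v, T v q p = T v p q := fun v => hT.s23 _ _ _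
  have hY : ∀ (v : V) (m n : k), T v (m • p + n • q) (m • p + n • q) =
      T v p p * m ^ 2 + 2 * T v p q * m * n + T v q q * n ^ 2 := by
    intro v m n
    simp only [map_add, map_smul, LinearMap.add_apply, LinearMap.smul_apply, smul_eq_mul, hqp]
    ring
  have hP : y₀ * (lf (T a p p) (T b p p) * y₀ + lf (T a p q) (T b p q) * y₁ - g * u₀) +
      y₁ * (lf (T a p q) (T b p q) * y₀ + lf (T a q q) (T b q q) * y₁ - g * u₁) = 0 := by
    apply mul_left_cancel₀ hg0
    rw [mul_zero]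
    refine MvPolynomial.funext fun x => ?_
    have h1 := hcc x
    have h2 : c x = eval x g • (x 0 • a + x 1 • b) + (-1 : k) • (eval x y₀ • p + eval x y₁ • q) := by
      rw [hc]; module
    rw [h2, hT.cube_smul_add_smul, hab, hpq, hY, hW x p p, hW x p q, hW x q q] at h1
    have h4 : T (x 0 • a + x 1 • b) (x 0 • a + x 1 • b) (eval x y₀ • p + eval x y₁ • q) =
        eval x y₀ * eval x u₀ + eval x y₁ * eval x u₁ := by
      rw [map_add, map_smul, map_smul, hU, hU, hu₀, hu₁, eval_qf, eval_qf, smul_eq_mul, smul_eq_mul]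
    rw [h4] at h1
    simp only [map_mul, map_add, map_sub, eval_lf, map_zero]
    apply mul_left_cancel₀ h3
    linear_combination h1
  obtain ⟨l₀, l₁, r, hr, e1, e2, e3⟩ := core (A11 := T a p p) (A12 := T a p q) (A22 := T a q q) (B11 := T b p p)
    (B12 := T b p q) (B22 := T b q q) (fun m n hA hB => hnd m n ((hY a m n).trans hA) ((hY b m n).trans hB))
    hg hg0 hy₀ hy₁ (isHomogeneous_qf _ _ _) (isHomogeneous_qf _ _ _) hy hP
  refine ⟨l₀, l₁, r, hr, fun x => ?_⟩
  have e1' := congrArg (eval x) e1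
  have e2' := congrArg (eval x) e2
  have e3' := congrArg (eval x) e3
  simp only [map_mul, map_add, map_sub, map_pow, eval_lf, eval_C, eval_qf, hu₀, hu₁] at e1' e2' e3'
  rw [hc, phipt, hU, hU, hW x p p, hW x p q, hW x q q, e1', e2', e3']
  module

end K118.TwLines
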