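import Groth.Agent.Fano.K118.TwLines
import Groth.Agent.Fano.K422.Eigen
import Groth.Agent.Fano.K714.ConicIrr

/-!
# A twisted cubic on a smooth hyperplane section of a cubic threefold comes from two lines

`exists_phi`: the determinantal representation of the cubic surface given by the twisted cubic, a solution of the
eigenvector problem `K422.Eigen.exists_eigen` and two skew lines.
-/

set_option autoImplicit false

universe u v

namespace K118.TwPhi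

open K656.Trilin Module K714.Surf K714.Frames K714.Tw MvPolynomial K118.TwCore K118.TwLines

variable {k : Type u} [Field k] {V : Type v} [AddCommGroup V] [Module k V]

section Sing

variable {Z : Type*} [AddCommGroup Z] [Module k Z]

/-- the cubic is singular where both products of the decomposition vanish doubly -/
theorem sing [CharZero k] {T : V →ₗ[k] V →ₗ[k] V →ₗ[k] k} (hT : IsSym3 T) (v : Z →ₗ[k] V)
    (a0 a1 A B b0 b1 g0 g1 : Z →ₗ[k] k) {δ : k} (hδ : δ ≠ 0)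
    (hF : ∀ z, δ * T (v z) (v z) (v z) =
      A z * (a1 z * b0 z - a0 z * b1 z) + B z * (a1 z * g0 z - a0 z * g1 z))
    {z : Z} (hA : A z = 0) (hB : B z = 0) (h1 : a1 z * b0 z - a0 z * b1 z = 0)
    (h2 : a1 z * g0 z - a0 z * g1 z = 0) (z' : Z) : T (v z) (v z) (v z') = 0 := by
  have key : ∀ e : k, δ * (T (v z) (v z) (v z) + 3 * e * T (v z) (v z) (v z') +
      3 * e ^ 2 * T (v z) (v z') (v z') + e ^ 3 * T (v z') (v z') (v z')) =
      e * A z' * (e * (a1 z' * b0 z + a1 z * b0 z' - a0 z' * b1 z - a0 z * b1 z') +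
        e ^ 2 * (a1 z' * b0 z' - a0 z' * b1 z')) +
      e * B z' * (e * (a1 z' * g0 z + a1 z * g0 z' - a0 z' * g1 z - a0 z * g1 z') +
        e ^ 2 * (a1 z' * g0 z' - a0 z' * g1 z')) := by
    intro e
    have h := hF (z + e • z')
    rw [map_add, map_smul, hT.cube_add_smul] at h
    simp only [map_add, map_smul, smul_eq_mul, hA, hB] at h
    rw [h]
    linear_combination (e * A z') * h1 + (e * B z') * h2
  have h0 : T (v z) (v z) (v z) = 0 := by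
    have := key 0
    simp only [mul_zero, zero_mul, add_zero, ne_eq, OfNat.ofNat_ne_zero, not_false_eq_true, zero_pow] at this
    exact (mul_eq_zero.1 this).resolve_left hδ
  have k1 := key 1
  have k2 := key (-1)
  have k3 := key 2
  rw [h0] at k1 k2 k3
  have h18 : (18 : k) * δ ≠ 0 := mul_ne_zero (by norm_num) hδ
  apply mul_left_cancel₀ h18
  rw [mul_zero]
  linear_combination 6 * k1 - 2 * k2 - k3

/-- the point is zero when the hyperplane section is smooth -/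
theorem sing_zero [CharZero k] {T : V →ₗ[k] V →ₗ[k] V →ₗ[k] k} (hT : IsSym3 T) (v : Z →ₗ[k] V)
    (hv : Function.Injective v) (hs : SmoothOn T (LinearMap.range v))
    (a0 a1 A B b0 b1 g0 g1 : Z →ₗ[k] k) {δ : k} (hδ : δ ≠ 0)
    (hF : ∀ z, δ * T (v z) (v z) (v z) =
      A z * (a1 z * b0 z - a0 z * b1 z) + B z * (a1 z * g0 z - a0 z * g1 z))
    {z : Z} (hA : A z = 0) (hB : B z = 0) (h1 : a1 z * b0 z - a0 z * b1 z = 0)
    (h2 : a1 z * g0 z - a0 z * g1 z = 0) : z = 0 := by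
  have h := sing hT v a0 a1 A B b0 b1 g0 g1 hδ hF hA hB h1 h2
  by_contra hz
  obtain ⟨w, ⟨z', rfl⟩, hw⟩ := hs (v z) ⟨z, rfl⟩ (fun h0 => hz (hv (h0.trans (map_zero v).symm))) (h z)
  exact hw (h z')

/-- coordinates adapted to the two lines -/
theorem exists_coord [CharZero k] {T : V →ₗ[k] V →ₗ[k] V →ₗ[k] k} (hT : IsSym3 T) (v : Z →ₗ[k] V)
    (hZ : finrank k Z = 4) (hv : Function.Injective v) (hs : SmoothOn T (LinearMap.range v))
    (a0 a1 A B b0 b1 g0 g1 : Z →ₗ[k] k) {δ : k} (hδ : δ ≠ 0)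
    (hF : ∀ z, δ * T (v z) (v z) (v z) =
      A z * (a1 z * b0 z - a0 z * b1 z) + B z * (a1 z * g0 z - a0 z * g1 z)) :
    ∃ φ : Z ≃ₗ[k] (Fin 4 → k), ∀ z, φ z 0 = a0 z ∧ φ z 1 = a1 z ∧ φ z 2 = A z ∧ φ z 3 = B z := by
  have : FiniteDimensional k Z := Module.finite_of_finrank_pos (by rw [hZ]; norm_num)
  let f : Z →ₗ[k] (Fin 4 → k) := LinearMap.pi ![a0, a1, A, B]
  have hf : Function.Injective f := by
    rw [← LinearMap.ker_eq_bot, LinearMap.ker_eq_bot']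
    intro z hz
    have e0 : a0 z = 0 := congrFun hz 0
    have e1 : a1 z = 0 := congrFun hz 1
    have e2 : A z = 0 := congrFun hz 2
    have e3 : B z = 0 := congrFun hz 3
    exact sing_zero hT v hv hs a0 a1 A B b0 b1 g0 g1 hδ hF e2 e3 (by rw [e0, e1]; ring) (by rw [e0, e1]; ring)
  refine ⟨LinearEquiv.ofInjectiveOfFinrankEq f hf (by rw [hZ]; simp), fun z => ⟨rfl, rfl, rfl, rfl⟩⟩

end Sing

section Coeffs

variable {T : V →ₗ[k] V →ₗ[k] V →ₗ[k] k}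

/-- the value of a symmetric trilinear form on a combination of four vectors -/
theorem cube_four (hT : IsSym3 T) (c : Fin 4 → V) (z : Fin 4 → k) :
    T (z 0 • c 0 + z 1 • c 1 + z 2 • c 2 + z 3 • c 3) (z 0 • c 0 + z 1 • c 1 + z 2 • c 2 + z 3 • c 3)
      (z 0 • c 0 + z 1 • c 1 + z 2 • c 2 + z 3 • c 3) =
      z 0 ^ 3 * T (c 0) (c 0) (c 0) + 3 * z 0 ^ 2 * z 1 * T (c 0) (c 0) (c 1) +
      3 * z 0 ^ 2 * z 2 * T (c 0) (c 0) (c 2) + 3 * z 0 ^ 2 * z 3 * T (c 0) (c 0) (c 3) +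
      3 * z 0 * z 1 ^ 2 * T (c 0) (c 1) (c 1) + 6 * z 0 * z 1 * z 2 * T (c 0) (c 1) (c 2) +
      6 * z 0 * z 1 * z 3 * T (c 0) (c 1) (c 3) + 3 * z 0 * z 2 ^ 2 * T (c 0) (c 2) (c 2) +
      6 * z 0 * z 2 * z 3 * T (c 0) (c 2) (c 3) + 3 * z 0 * z 3 ^ 2 * T (c 0) (c 3) (c 3) +
      z 1 ^ 3 * T (c 1) (c 1) (c 1) + 3 * z 1 ^ 2 * z 2 * T (c 1) (c 1) (c 2) +
      3 * z 1 ^ 2 * z 3 * T (c 1) (c 1) (c 3) + 3 * z 1 * z 2 ^ 2 * T (c 1) (c 2) (c 2) +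
      6 * z 1 * z 2 * z 3 * T (c 1) (c 2) (c 3) + 3 * z 1 * z 3 ^ 2 * T (c 1) (c 3) (c 3) +
      z 2 ^ 3 * T (c 2) (c 2) (c 2) + 3 * z 2 ^ 2 * z 3 * T (c 2) (c 2) (c 3) +
      3 * z 2 * z 3 ^ 2 * T (c 2) (c 3) (c 3) + z 3 ^ 3 * T (c 3) (c 3) (c 3) := by
  have e1 := hT.cube_add (z 0 • c 0 + z 1 • c 1) (z 2 • c 2 + z 3 • c 3)
  have e2 := hT.cube_smul_add_smul (c 0) (c 1) (z 0) (z 1)
  have e3 := hT.cube_smul_add_smul (c 2) (c 3) (z 2) (z 3)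
  have e4 : T (z 0 • c 0 + z 1 • c 1) (z 0 • c 0 + z 1 • c 1) (z 2 • c 2 + z 3 • c 3) =
      z 2 * (z 0 ^ 2 * T (c 0) (c 0) (c 2) + 2 * z 0 * z 1 * T (c 0) (c 1) (c 2) +
        z 1 ^ 2 * T (c 1) (c 1) (c 2)) +
      z 3 * (z 0 ^ 2 * T (c 0) (c 0) (c 3) + 2 * z 0 * z 1 * T (c 0) (c 1) (c 3) +
        z 1 ^ 2 * T (c 1) (c 1) (c 3)) := by
    rw [map_add, map_smul, map_smul, hT.sq_smul_add_smul, hT.sq_smul_add_smul, smul_eq_mul, smul_eq_mul]
  have e5 : T (z 0 • c 0 + z 1 • c 1) (z 2 • c 2 + z 3 • c 3) (z 2 • c 2 + z 3 • c 3) =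
      z 0 * (z 2 ^ 2 * T (c 0) (c 2) (c 2) + 2 * z 2 * z 3 * T (c 0) (c 2) (c 3) +
        z 3 ^ 2 * T (c 0) (c 3) (c 3)) +
      z 1 * (z 2 ^ 2 * T (c 1) (c 2) (c 2) + 2 * z 2 * z 3 * T (c 1) (c 2) (c 3) +
        z 3 ^ 2 * T (c 1) (c 3) (c 3)) := by
    have q1 : T (c 0) (c 3) (c 2) = T (c 0) (c 2) (c 3) := hT.s23 _ _ _
    have q2 : T (c 1) (c 3) (c 2) = T (c 1) (c 2) (c 3) := hT.s23 _ _ _
    simp only [map_add, map_smul, LinearMap.add_apply, LinearMap.smul_apply, smul_eq_mul, q1, q2]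
    ring
  have hv : z 0 • c 0 + z 1 • c 1 + z 2 • c 2 + z 3 • c 3 =
      (z 0 • c 0 + z 1 • c 1) + (z 2 • c 2 + z 3 • c 3) := by module
  rw [hv, e1, e2, e3, e4, e5]
  ring

/-- the relations expressing that the cubic vanishes on a twisted cubic -/
theorem tc_eqs [CharZero k] [Infinite k] (hT : IsSym3 T) {c : Fin 4 → V}
    (h : ∀ s t : k, T (tpt c s t) (tpt c s t) (tpt c s t) = 0) :
    T (c 0) (c 0) (c 0) = 0 ∧ T (c 0) (c 0) (c 1) = 0 ∧ T (c 0) (c 0) (c 2) + T (c 0) (c 1) (c 1) = 0 ∧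
    3 * T (c 0) (c 0) (c 3) + 6 * T (c 0) (c 1) (c 2) + T (c 1) (c 1) (c 1) = 0 ∧
    6 * T (c 0) (c 1) (c 3) + 3 * T (c 0) (c 2) (c 2) + 3 * T (c 1) (c 1) (c 2) = 0 ∧
    6 * T (c 0) (c 2) (c 3) + 3 * T (c 1) (c 1) (c 3) + 3 * T (c 1) (c 2) (c 2) = 0 ∧
    3 * T (c 0) (c 3) (c 3) + 6 * T (c 1) (c 2) (c 3) + T (c 2) (c 2) (c 2) = 0 ∧
    T (c 1) (c 3) (c 3) + T (c 2) (c 2) (c 3) = 0 ∧ T (c 2) (c 3) (c 3) = 0 ∧ T (c 3) (c 3) (c 3) = 0 := by
  have h3 : (3 : k) ≠ 0 := by norm_num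
  have hc := K714.ConicIrr.coeffs_zero (n := 10) ![T (c 3) (c 3) (c 3), 3 * T (c 2) (c 3) (c 3),
    3 * (T (c 1) (c 3) (c 3) + T (c 2) (c 2) (c 3)),
    3 * T (c 0) (c 3) (c 3) + 6 * T (c 1) (c 2) (c 3) + T (c 2) (c 2) (c 2),
    6 * T (c 0) (c 2) (c 3) + 3 * T (c 1) (c 1) (c 3) + 3 * T (c 1) (c 2) (c 2),
    6 * T (c 0) (c 1) (c 3) + 3 * T (c 0) (c 2) (c 2) + 3 * T (c 1) (c 1) (c 2),
    3 * T (c 0) (c 0) (c 3) + 6 * T (c 0) (c 1) (c 2) + T (c 1) (c 1) (c 1),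
    3 * (T (c 0) (c 0) (c 2) + T (c 0) (c 1) (c 1)), 3 * T (c 0) (c 0) (c 1), T (c 0) (c 0) (c 0)] (by
      intro s
      have h1 := h s 1
      have h2 := cube_four hT c ![s ^ 3, s ^ 2 * 1, s * 1 ^ 2, 1 ^ 3]
      simp only [tpt] at h1
      simp only [Matrix.cons_val] at h2
      rw [h1] at h2
      simp [Fin.sum_univ_succ]
      linear_combination -h2)
  have c0 := hc 0
  have c1 := hc 1
  have c2 := hc 2
  have c3 := hc 3
  have c4 := hc 4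
  have c5 := hc 5
  have c6 := hc 6
  have c7 := hc 7
  have c8 := hc 8
  have c9 := hc 9
  simp only [Matrix.cons_val, mul_eq_zero, h3, false_or] at c0 c1 c2 c3 c4 c5 c6 c7 c8 c9
  exact ⟨c9, c8, c7, c6, c5, c4, c3, c2, c1, c0⟩

end Coeffs

section Forms

/-- the linear form with coefficients `u` -/
noncomputable def dt (u : Fin 4 → k) : (Fin 4 → k) →ₗ[k] k := ∑ i, u i • LinearMap.proj i

theorem dt_apply (u z : Fin 4 → k) : dt u z = u 0 * z 0 + u 1 * z 1 + u 2 * z 2 + u 3 * z 3 := by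
  simp [dt, Fin.sum_univ_four]

/-- the binary cubic form with coefficients `u` -/
noncomputable def cf (u : Fin 4 → k) : MvPolynomial (Fin 2) k :=
  C (u 0) * X 0 ^ 3 + C (u 1) * (X 0 ^ 2 * X 1) + C (u 2) * (X 0 * X 1 ^ 2) + C (u 3) * X 1 ^ 3

theorem eval_cf (u : Fin 4 → k) (x : Fin 2 → k) : eval x (cf u) =
    dt u ![x 0 ^ 3, x 0 ^ 2 * x 1, x 0 * x 1 ^ 2, x 1 ^ 3] := by
  simp [cf, dt_apply]

theorem isHomogeneous_cf (u : Fin 4 → k) : (cf u).IsHomogeneous 3 := by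
  refine IsHomogeneous.add (IsHomogeneous.add (IsHomogeneous.add ?_ ?_) ?_) ?_
  · exact ((isHomogeneous_X k 0).pow 3).C_mul _
  · exact (((isHomogeneous_X k 0).pow 2).mul (isHomogeneous_X k 1)).C_mul _
  · exact ((isHomogeneous_X k 0).mul ((isHomogeneous_X k 1).pow 2)).C_mul _
  · exact ((isHomogeneous_X k 1).pow 3).C_mul _

theorem qf_ne_zero [Infinite k] {ρ : Fin 3 → k} (h : ρ ≠ 0) : qf (ρ 0) (ρ 1) (ρ 2) ≠ 0 := by
  intro h0
  have h1 : ∀ s : k, ρ 0 * s ^ 2 + ρ 1 * s + ρ 2 = 0 := by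
    intro s
    have := congrArg (eval ![s, 1]) h0
    simpa [eval_qf] using this
  have hc := K714.ConicIrr.coeffs_zero (n := 3) ![ρ 2, ρ 1, ρ 0] (by
    intro s
    simp [Fin.sum_univ_succ]
    linear_combination h1 s)
  apply h
  funext i
  fin_cases i
  · exact hc 2
  · exact hc 1
  · exact hc 0

end Forms

section Main

variable {T : V →ₗ[k] V →ₗ[k] V →ₗ[k] k}

/-- two more vectors -/
theorem exists_frame {ρ : Fin 3 → k} (h : ρ ≠ 0) : ∃ β γ : Fin 3 → k,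
    ρ 0 * (β 1 * γ 2 - β 2 * γ 1) - ρ 1 * (β 0 * γ 2 - β 2 * γ 0) + ρ 2 * (β 0 * γ 1 - β 1 * γ 0) ≠ 0 := by
  by_cases h0 : ρ 0 = 0
  · by_cases h1 : ρ 1 = 0
    · have h2 : ρ 2 ≠ 0 := by
        intro h2
        apply h
        funext i
        fin_cases i
        · exact h0
        · exact h1
        · exact h2
      exact ⟨![1, 0, 0], ![0, 1, 0], by simpa [h0, h1] using h2⟩
    · exact ⟨![0, 0, 1], ![1, 0, 0], by simpa [h0] using h1⟩
  · exact ⟨![0, 1, 0], ![0, 0, 1], by simpa using h0⟩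

/-- the determinantal representation after solving the eigenvector problem -/
theorem exists_decomp [IsAlgClosed k] [CharZero k] (hT : IsSym3 T) {c : Fin 4 → V}
    (h : ∀ s t : k, T (tpt c s t) (tpt c s t) (tpt c s t) = 0) :
    ∃ (ρ β γ : Fin 3 → k) (A B : Fin 4 → k) (δ : k), ρ ≠ 0 ∧ δ ≠ 0 ∧ ∀ z : Fin 4 → k,
      δ * T (Fintype.linearCombination k c z) (Fintype.linearCombination k c z)
        (Fintype.linearCombination k c z) =
      dt A z * (dt ![0, ρ 0, ρ 1, ρ 2] z * dt ![β 0, β 1, β 2, 0] z -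
        dt ![ρ 0, ρ 1, ρ 2, 0] z * dt ![0, β 0, β 1, β 2] z) +
      dt B z * (dt ![0, ρ 0, ρ 1, ρ 2] z * dt ![γ 0, γ 1, γ 2, 0] z -
        dt ![ρ 0, ρ 1, ρ 2, 0] z * dt ![0, γ 0, γ 1, γ 2] z) := by
  have : Infinite k := IsAlgClosed.instInfinite
  obtain ⟨c0, c1, c2, c3, c4, c5, c6, c7, c8, c9⟩ := tc_eqs hT h
  obtain ⟨ρ, m, n, hρ, e0, e1, e2, e3⟩ := K422.Eigen.exists_eigen
    ![![0, 3 * T (c 1) (c 1) (c 3), - T (c 2) (c 2) (c 2), 3 * T (c 1) (c 3) (c 3)],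
      ![-(3 * T (c 0) (c 0) (c 3)), -(6 * T (c 0) (c 1) (c 3)), -(6 * T (c 0) (c 2) (c 3)),
        -(3 * T (c 0) (c 3) (c 3))],
      ![3 * T (c 0) (c 0) (c 2), - T (c 1) (c 1) (c 1), 3 * T (c 0) (c 2) (c 2), 0]]
  obtain ⟨β, γ, hδ⟩ := exists_frame hρ
  rw [Fin.sum_univ_three] at e0 e1 e2 e3
  simp only [Matrix.cons_val] at e0 e1 e2 e3
  refine ⟨ρ, β, γ, ![-(γ 1 * -(3 * T (c 0) (c 0) (c 3)) + γ 2 * (3 * T (c 0) (c 0) (c 2)) - m * γ 0),
    -(γ 0 * (3 * T (c 1) (c 1) (c 3)) + γ 1 * -(6 * T (c 0) (c 1) (c 3)) + γ 2 * -T (c 1) (c 1) (c 1) -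
      m * γ 1 - n * γ 0),
    -(γ 0 * -T (c 2) (c 2) (c 2) + γ 1 * -(6 * T (c 0) (c 2) (c 3)) + γ 2 * (3 * T (c 0) (c 2) (c 2)) -
      m * γ 2 - n * γ 1),
    -(γ 0 * (3 * T (c 1) (c 3) (c 3)) + γ 1 * -(3 * T (c 0) (c 3) (c 3)) - n * γ 2)],
    ![β 1 * -(3 * T (c 0) (c 0) (c 3)) + β 2 * (3 * T (c 0) (c 0) (c 2)) - m * β 0,
    β 0 * (3 * T (c 1) (c 1) (c 3)) + β 1 * -(6 * T (c 0) (c 1) (c 3)) + β 2 * -T (c 1) (c 1) (c 1) -
      m * β 1 - n * β 0,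
    β 0 * -T (c 2) (c 2) (c 2) + β 1 * -(6 * T (c 0) (c 2) (c 3)) + β 2 * (3 * T (c 0) (c 2) (c 2)) -
      m * β 2 - n * β 1,
    β 0 * (3 * T (c 1) (c 3) (c 3)) + β 1 * -(3 * T (c 0) (c 3) (c 3)) - n * β 2], _, hρ, hδ, fun z => ?_⟩
  rw [Fintype.linearCombination_apply, Fin.sum_univ_four, cube_four hT]
  simp only [dt_apply, Matrix.cons_val]
  have hF : z 0 ^ 3 * T (c 0) (c 0) (c 0) + 3 * z 0 ^ 2 * z 1 * T (c 0) (c 0) (c 1) +
      3 * z 0 ^ 2 * z 2 * T (c 0) (c 0) (c 2) + 3 * z 0 ^ 2 * z 3 * T (c 0) (c 0) (c 3) +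
      3 * z 0 * z 1 ^ 2 * T (c 0) (c 1) (c 1) + 6 * z 0 * z 1 * z 2 * T (c 0) (c 1) (c 2) +
      6 * z 0 * z 1 * z 3 * T (c 0) (c 1) (c 3) + 3 * z 0 * z 2 ^ 2 * T (c 0) (c 2) (c 2) +
      6 * z 0 * z 2 * z 3 * T (c 0) (c 2) (c 3) + 3 * z 0 * z 3 ^ 2 * T (c 0) (c 3) (c 3) +
      z 1 ^ 3 * T (c 1) (c 1) (c 1) + 3 * z 1 ^ 2 * z 2 * T (c 1) (c 1) (c 2) +
      3 * z 1 ^ 2 * z 3 * T (c 1) (c 1) (c 3) + 3 * z 1 * z 2 ^ 2 * T (c 1) (c 2) (c 2) +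
      6 * z 1 * z 2 * z 3 * T (c 1) (c 2) (c 3) + 3 * z 1 * z 3 ^ 2 * T (c 1) (c 3) (c 3) +
      z 2 ^ 3 * T (c 2) (c 2) (c 2) + 3 * z 2 ^ 2 * z 3 * T (c 2) (c 2) (c 3) +
      3 * z 2 * z 3 ^ 2 * T (c 2) (c 3) (c 3) + z 3 ^ 3 * T (c 3) (c 3) (c 3) =
      (z 0 * z 2 - z 1 ^ 2) * (3 * T (c 0) (c 0) (c 2) * z 0 - T (c 1) (c 1) (c 1) * z 1 +
        3 * T (c 0) (c 2) (c 2) * z 2) +
      (z 0 * z 3 - z 1 * z 2) * (3 * T (c 0) (c 0) (c 3) * z 0 + 6 * T (c 0) (c 1) (c 3) * z 1 +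
        6 * T (c 0) (c 2) (c 3) * z 2 + 3 * T (c 0) (c 3) (c 3) * z 3) +
      (z 1 * z 3 - z 2 ^ 2) * (3 * T (c 1) (c 1) (c 3) * z 1 - T (c 2) (c 2) (c 2) * z 2 +
        3 * T (c 1) (c 3) (c 3) * z 3) := by
    linear_combination z 0 ^ 3 * c0 + 3 * z 0 ^ 2 * z 1 * c1 + 3 * z 0 * z 1 ^ 2 * c2 +
      z 0 * z 1 * z 2 * c3 + z 1 ^ 2 * z 2 * c4 + z 1 * z 2 ^ 2 * c5 + z 1 * z 2 * z 3 * c6 +
      3 * z 2 ^ 2 * z 3 * c7 + 3 * z 2 * z 3 ^ 2 * c8 + z 3 ^ 3 * c9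
  rw [hF]
  linear_combination ((z 0 * β 0 + z 1 * β 1 + z 2 * β 2) * (z 1 * γ 0 + z 2 * γ 1 + z 3 * γ 2) -
    (z 0 * γ 0 + z 1 * γ 1 + z 2 * γ 2) * (z 1 * β 0 + z 2 * β 1 + z 3 * β 2)) *
    (z 0 * e0 + z 1 * e1 + z 2 * e2 + z 3 * e3)

/-- a twisted cubic on a smooth cubic surface comes from two lines -/
theorem exists_phi' [IsAlgClosed k] [CharZero k] (hT : IsSym3 T) {c : Fin 4 → V}
    (hc : LinearIndependent k c) (h : ∀ s t : k, T (tpt c s t) (tpt c s t) (tpt c s t) = 0)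
    (hs : SmoothOn T (Submodule.span k (Set.range c))) :
    ∃ (e : Fin 4 → V) (l₀ l₁ r : k), r ≠ 0 ∧ LinearIndependent k e ∧
      (∀ i, e i ∈ Submodule.span k (Set.range c)) ∧
      (∀ s t : k, T (s • e 0 + t • e 1) (s • e 0 + t • e 1) (s • e 0 + t • e 1) = 0) ∧
      (∀ s t : k, T (s • e 2 + t • e 3) (s • e 2 + t • e 3) (s • e 2 + t • e 3) = 0) ∧
      ∀ s t : k, tpt c s t = r • phipt T (e 0) (e 1) (e 2) (e 3) l₀ l₁ s t := by
  have : Infinite k := IsAlgClosed.instInfinite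
  obtain ⟨ρ, β, γ, A, B, δ, hρ, hδ, hF⟩ := exists_decomp hT h
  set v : (Fin 4 → k) →ₗ[k] V := Fintype.linearCombination k c with hv
  have hr : LinearMap.range v = Submodule.span k (Set.range c) := Fintype.range_linearCombination k c
  rw [← hr] at hs
  have hinj : Function.Injective v := by
    rw [← LinearMap.ker_eq_bot, LinearMap.ker_eq_bot']
    intro z hz
    rw [hv, Fintype.linearCombination_apply] at hz
    funext i
    exact Fintype.linearIndependent_iff.1 hc z hz i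
  obtain ⟨φ, hφ⟩ := exists_coord hT v (by simp) hinj hs _ _ _ _ _ _ _ _ hδ hF
  have hz0 : ∀ {z : Fin 4 → k}, _ := fun {z} =>
    sing_zero hT v hinj hs _ _ _ _ _ _ _ _ hδ hF (z := z)
  set e : Fin 4 → V := fun i => v (φ.symm (Pi.single i 1)) with he
  have hsum : ∀ z, v z = φ z 0 • e 0 + φ z 1 • e 1 + φ z 2 • e 2 + φ z 3 • e 3 := by
    intro z
    have h1 : φ z = φ z 0 • Pi.single 0 1 + φ z 1 • Pi.single 1 1 + φ z 2 • Pi.single 2 1 +
        φ z 3 • Pi.single 3 1 := by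
      have := (pi_eq_sum_univ' (φ z))
      rw [Fin.sum_univ_four] at this
      funext i
      fin_cases i <;> simp
    have h2 : z = φ.symm (φ z) := (φ.symm_apply_apply z).symm
    conv_lhs => rw [h2, h1]
    simp only [map_add, map_smul, he]
  have hsymm : ∀ w : Fin 4 → k, v (φ.symm w) = w 0 • e 0 + w 1 • e 1 + w 2 • e 2 + w 3 • e 3 := by
    intro w
    rw [hsum, φ.apply_symm_apply]
  have hei : LinearIndependent k e := by
    rw [Fintype.linearIndependent_iff]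
    intro w hw i
    rw [Fin.sum_univ_four, ← hsymm] at hw
    have h1 : φ.symm w = 0 := hinj (hw.trans (map_zero v).symm)
    have h2 : w = 0 := by simpa using h1
    rw [h2, Pi.zero_apply]
  have hmem : ∀ i, e i ∈ Submodule.span k (Set.range c) := fun i => hr ▸ ⟨_, rfl⟩
  -- the two lines
  have hab : ∀ s t : k, T (s • e 0 + t • e 1) (s • e 0 + t • e 1) (s • e 0 + t • e 1) = 0 := by
    intro s t
    have h1 : s • e 0 + t • e 1 = v (φ.symm ![s, t, 0, 0]) := by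
      rw [hsymm]; simp
    obtain ⟨-, -, h3, h4⟩ := hφ (φ.symm ![s, t, 0, 0])
    rw [φ.apply_symm_apply] at h3 h4
    simp only [Matrix.cons_val] at h3 h4
    have h5 := hF (φ.symm ![s, t, 0, 0])
    rw [← h3, ← h4, zero_mul, zero_mul, add_zero] at h5
    rw [h1]
    exact (mul_eq_zero.1 h5).resolve_left hδ
  have hpq : ∀ s t : k, T (s • e 2 + t • e 3) (s • e 2 + t • e 3) (s • e 2 + t • e 3) = 0 := by
    intro s t
    have h1 : s • e 2 + t • e 3 = v (φ.symm ![0, 0, s, t]) := by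
      rw [hsymm]; simp
    obtain ⟨h3, h4, -, -⟩ := hφ (φ.symm ![0, 0, s, t])
    rw [φ.apply_symm_apply] at h3 h4
    simp only [Matrix.cons_val] at h3 h4
    have h5 := hF (φ.symm ![0, 0, s, t])
    rw [← h3, ← h4] at h5
    simp only [zero_mul, sub_zero, mul_zero, add_zero] at h5
    rw [h1]
    exact (mul_eq_zero.1 h5).resolve_left hδ
  -- nondegeneracy
  have hnd : ∀ m n : k, T (e 0) (m • e 2 + n • e 3) (m • e 2 + n • e 3) = 0 →
      T (e 1) (m • e 2 + n • e 3) (m • e 2 + n • e 3) = 0 → m = 0 ∧ n = 0 := by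
    intro m n h1 h2
    set w := m • e 2 + n • e 3 with hw
    have hw2 : T w w (e 2) = 0 ∧ T w w (e 3) = 0 := by
      have hU : ∀ u ∈ Submodule.span k {e 2, e 3}, T u u u = 0 := by
        intro u hu
        obtain ⟨s, t, rfl⟩ := Submodule.mem_span_pair.1 hu
        exact hpq s t
      have m2 : e 2 ∈ Submodule.span k {e 2, e 3} := Submodule.subset_span (by simp)
      have m3 : e 3 ∈ Submodule.span k {e 2, e 3} := Submodule.subset_span (by simp)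
      have mw : w ∈ Submodule.span k {e 2, e 3} := Submodule.mem_span_pair.2 ⟨m, n, rfl⟩
      exact ⟨hT.eq_zero_of_diag _ hU mw mw m2, hT.eq_zero_of_diag _ hU mw mw m3⟩
    have hw0 : w = 0 := by
      by_contra hne
      have hwv : w = v (φ.symm ![0, 0, m, n]) := by
        rw [hsymm]; simp [hw]
      obtain ⟨w', ⟨z', rfl⟩, hw'⟩ := hs w (hwv ▸ ⟨_, rfl⟩) hne (hpq m n)
      apply hw'
      have h1' : T w w (e 0) = 0 := (hT.rot _ _ _).symm.trans h1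
      have h2' : T w w (e 1) = 0 := (hT.rot _ _ _).symm.trans h2
      rw [hsum z', map_add, map_add, map_add, map_smul, map_smul, map_smul, map_smul, hw2.1, hw2.2,
        h1', h2']
      simp
    have h3 := (Fintype.linearIndependent_iff.1 hei) ![0, 0, m, n] (by
      rw [Fin.sum_univ_four]
      simp only [Matrix.cons_val, zero_smul, zero_add]
      exact hw0)
    exact ⟨h3 2, h3 3⟩
  -- the curve
  set κ : (Fin 2 → k) → (Fin 4 → k) := fun x => ![x 0 ^ 3, x 0 ^ 2 * x 1, x 0 * x 1 ^ 2, x 1 ^ 3] with hκ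
  have hvκ : ∀ x, v (κ x) = tpt c (x 0) (x 1) := by
    intro x
    rw [hv, Fintype.linearCombination_apply, Fin.sum_univ_four]
    simp only [hκ, tpt, Matrix.cons_val]
  have hAκ : ∀ x, eval x (cf A) = dt A (κ x) := fun x => eval_cf A x
  have hBκ : ∀ x, eval x (cf B) = dt B (κ x) := fun x => eval_cf B x
  have hκ0 : ∀ x : Fin 2 → k, dt A (κ x) = 0 → dt B (κ x) = 0 → x = 0 := by
    intro x h1 h2
    have h3 := hz0 h1 h2 (by simp only [dt_apply, hκ, Matrix.cons_val]; ring)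
      (by simp only [dt_apply, hκ, Matrix.cons_val]; ring)
    have h4 := congrFun h3 0
    have h5 := congrFun h3 3
    simp only [hκ, Matrix.cons_val, Pi.zero_apply] at h4 h5
    funext i
    fin_cases i
    · exact pow_eq_zero_iff (three_ne_zero) |>.1 h4
    · exact pow_eq_zero_iff (three_ne_zero) |>.1 h5
  obtain ⟨l₀, l₁, r, hr0, hfin⟩ := exists_phipt hT hab hpq hnd (isHomogeneous_qf (ρ 0) (ρ 1) (ρ 2))
    (qf_ne_zero hρ) (isHomogeneous_cf A).neg (isHomogeneous_cf B).neg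
    (fun x hx h1 h2 => hx (hκ0 x (by rw [← hAκ]; simpa using h1) (by rw [← hBκ]; simpa using h2)))
    (c := fun x => v (κ x)) (by
      intro x
      obtain ⟨h1, h2, h3, h4⟩ := hφ (κ x)
      have h5 : dt ![ρ 0, ρ 1, ρ 2, 0] (κ x) = eval x (qf (ρ 0) (ρ 1) (ρ 2)) * x 0 := by
        simp only [dt_apply, hκ, Matrix.cons_val, eval_qf]; ring
      have h6 : dt ![0, ρ 0, ρ 1, ρ 2] (κ x) = eval x (qf (ρ 0) (ρ 1) (ρ 2)) * x 1 := by
        simp only [dt_apply, hκ, Matrix.cons_val, eval_qf]; ring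
      rw [hsum, h1, h2, h3, h4, h5, h6, map_neg, map_neg, hAκ, hBκ]
      module) (fun x => by simp only [hvκ]; exact h _ _)
  refine ⟨e, l₀, l₁, r⁻¹, inv_ne_zero hr0, hei, hmem, hab, hpq, fun s t => ?_⟩
  have h1 := hfin ![s, t]
  simp only [hvκ, Matrix.cons_val] at h1
  rw [h1, smul_smul, inv_mul_cancel₀ hr0, one_smul]

/-- a line on the cubic gives an element of `FR` -/
theorem mem_FR [CharZero k] {T : (Fin 5 → k) →ₗ[k] (Fin 5 → k) →ₗ[k] (Fin 5 → k) →ₗ[k] k} (hT : IsSym3 T)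
    {a b : Fin 5 → k} (hli : LinearIndependent k ![a, b])
    (h : ∀ s t : k, T (s • a + t • b) (s • a + t • b) (s • a + t • b) = 0) : (a, b) ∈ FR T := by
  have hU : ∀ u ∈ Submodule.span k {a, b}, T u u u = 0 := by
    intro u hu
    obtain ⟨s, t, rfl⟩ := Submodule.mem_span_pair.1 hu
    exact h s t
  have m1 : a ∈ Submodule.span k {a, b} := Submodule.subset_span (by simp)
  have m2 : b ∈ Submodule.span k {a, b} := Submodule.subset_span (by simp)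
  exact ⟨hli, hT.eq_zero_of_diag _ hU m1 m1 m1, hT.eq_zero_of_diag _ hU m1 m1 m2,
    hT.eq_zero_of_diag _ hU m1 m2 m2, hT.eq_zero_of_diag _ hU m2 m2 m2⟩

/-- `K714.PlanC.exists_phi` -/
theorem exists_phi [IsAlgClosed k] [CharZero k] {T : (Fin 5 → k) →ₗ[k] (Fin 5 → k) →ₗ[k] (Fin 5 → k) →ₗ[k] k}
    (hT : IsSym3 T) (hsm : SmoothOn T ⊤) {c : Fin 4 → Fin 5 → k} (hc : c ∈ TC T)
    (hs : SmoothOn T (Submodule.span k (Set.range c))) :
    ∃ (a b p q : Fin 5 → k) (l₀ l₁ r : k), (a, b) ∈ FR T ∧ (p, q) ∈ FR T ∧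
      ∀ s t : k, tpt c s t = r • phipt T a b p q l₀ l₁ s t := by
  obtain ⟨e, l₀, l₁, r, -, he, -, hab, hpq, hfin⟩ := exists_phi' hT hc.1 hc.2 hs
  refine ⟨e 0, e 1, e 2, e 3, l₀, l₁, r, mem_FR hT ?_ hab, mem_FR hT ?_ hpq, hfin⟩
  · have := he.comp ![0, 1] (by intro i j hij; fin_cases i <;> fin_cases j <;> simp_all)
    have h1 : (e ∘ ![0, 1] : Fin 2 → Fin 5 → k) = ![e 0, e 1] := by
      funext i; fin_cases i <;> rfl
    rwa [h1] at this
  · have := he.comp ![2, 3] (by intro i j hij; fin_cases i <;> fin_cases j <;> simp_all)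
    have h1 : (e ∘ ![2, 3] : Fin 2 → Fin 5 → k) = ![e 2, e 3] := by
      funext i; fin_cases i <;> rfl
    rwa [h1] at this

end Main

end K118.TwPhi
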